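import Groth.Agent.UnibOpen.Alg
import Groth.Prelude.Def_EGA43
import Mathlib.AlgebraicGeometry.ZariskisMainTheorem
import Mathlib.AlgebraicGeometry.Morphisms.QuasiFinite
import Mathlib.RingTheory.ZariskisMainTheorem

/-! Dominant morphisms of irreducible schemes are open at isolated points over unibranch points. -/

set_option autoImplicit false
universe u
open CategoryTheory AlgebraicGeometry Topology TopologicalSpace

namespace Groth.Agent.UnibOpen

theorem isOpenAt_comap (A B : Type u) [CommRing A] [IsDomain A] [CommRing B] [IsDomain B] [Algebra A B]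
    (hinj : Function.Injective (algebraMap A B)) (hint : Algebra.IsIntegral A B) (q : PrimeSpectrum B)
    (hu : CAlg2.IsUnibranch (Localization.AtPrime (q.asIdeal.comap (algebraMap A B)))) :
    EGA43.IsOpenAt (PrimeSpectrum.comap (algebraMap A B)) q := by
  intro N hN
  obtain ⟨_, ⟨b, rfl⟩, hbq, hsub⟩ := PrimeSpectrum.isTopologicalBasis_basic_opens.mem_nhds_iff.1 hN
  obtain ⟨a, ha, H⟩ := exists_basicOpen_subset (by rw [nilradical_eq_zero A]; exact Ideal.isPrime_bot)
    (by rw [nilradical_eq_zero B]; exact Ideal.isPrime_bot)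
    (by rw [(RingHom.injective_iff_ker_eq_bot _).1 hinj]; exact bot_le) q.asIdeal
    (Localization.AtPrime (q.asIdeal.comap (algebraMap A B))) hu b hbq
  refine Filter.mem_of_superset ((PrimeSpectrum.basicOpen a).2.mem_nhds ha) fun P hP => ?_
  obtain ⟨Q, hQ, hbQ, hQP⟩ := H P.asIdeal P.2 hP
  exact ⟨⟨Q, hQ⟩, hsub hbQ, PrimeSpectrum.ext hQP⟩

theorem isPrime_nilradical_of_isAffineOpen {X : Scheme.{u}} [IrreducibleSpace X] {W : X.Opens} (hW : IsAffineOpen W)
    {x : X} (hx : x ∈ W) : (nilradical Γ(X, W)).IsPrime := by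
  haveI : Nonempty (Spec Γ(X, W)) := ⟨hW.primeIdealOf ⟨x, hx⟩⟩
  exact PrimeSpectrum.irreducibleSpace_iff_isPrime_nilradical.1 hW.fromSpec.isOpenEmbedding.irreducibleSpace

theorem isOpenAt_of_isolated {X Y : Scheme.{u}} (f : X ⟶ Y) [IrreducibleSpace X] [IrreducibleSpace Y]
    [LocallyOfFiniteType f] (hd : DenseRange f.base) (x : X)
    (hx : nhdsWithin x (f.base ⁻¹' {f.base x}) = pure x)
    (hu : CAlg2.IsUnibranch (Y.presheaf.stalk (f.base x))) : EGA43.IsOpenAt f.base x := by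
  intro N hN
  obtain ⟨V, hV, hyV, -⟩ := exists_isAffineOpen_mem_and_subset (x := f.base x) (U := (⊤ : Y.Opens)) trivial
  obtain ⟨N', hN'N, hN'o, hxN'⟩ := mem_nhds_iff.1 hN
  obtain ⟨W, hW, hxW, hWV⟩ := exists_isAffineOpen_mem_and_subset (x := x) (U := f ⁻¹ᵁ V) hyV
  let φ := f.appLE V W hWV
  have hfac : Spec.map φ ≫ hV.fromSpec = hW.fromSpec ≫ f := IsAffineOpen.SpecMap_appLE_fromSpec f hV hW hWV
  have hfac' : ∀ z, hV.fromSpec.base ((Spec.map φ).base z) = f.base (hW.fromSpec.base z) := fun z => by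
    rw [← Scheme.Hom.comp_apply, hfac, Scheme.Hom.comp_apply]
  let q := hW.primeIdealOf ⟨x, hxW⟩
  have hqx : hW.fromSpec.base q = x := hW.fromSpec_primeIdealOf _
  letI : Algebra Γ(Y, V) Γ(X, W) := φ.hom.toAlgebra
  haveI : Algebra.FiniteType Γ(Y, V) Γ(X, W) := f.finiteType_appLE hV hW hWV
  have hqf : f.QuasiFiniteAt x := by
    rw [Scheme.Hom.quasiFiniteAt_iff_isOpen_singleton_asFiber, ← (f.fiberHomeo (f x)).isOpen_image, Set.image_singleton]
    simp only [Scheme.Hom.asFiber, Homeomorph.apply_symm_apply]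
    obtain ⟨U, hU, hxU, hUs⟩ := mem_nhdsWithin.1 (show ({x} : Set X) ∈ nhdsWithin x (f.base ⁻¹' {f.base x}) by
      rw [hx]; exact Filter.mem_pure.2 rfl)
    refine isOpen_induced_iff.2 ⟨U, hU, ?_⟩
    ext z
    exact ⟨fun hz => Subtype.ext (hUs ⟨hz, z.2⟩), fun hz => by rw [Set.mem_singleton_iff.1 hz]; exact hxU⟩
  haveI : Algebra.QuasiFiniteAt Γ(Y, V) q.asIdeal := hqf.quasiFiniteAt hW hV hWV hxW
  obtain ⟨r, hr, hri, hsat⟩ := Algebra.zariskisMainProperty_iff.1
    (Algebra.ZariskisMainProperty.of_finiteType (R := Γ(Y, V)) q.asIdeal)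
  have hopen : IsOpen (hW.fromSpec.base ⁻¹' N') := hN'o.preimage hW.fromSpec.continuous
  obtain ⟨_, ⟨b, rfl⟩, hbq, hsub⟩ := PrimeSpectrum.isTopologicalBasis_basic_opens.exists_subset_of_mem_open
    (show hW.fromSpec.base q ∈ N' by rw [hqx]; exact hxN') hopen
  obtain ⟨m, hm⟩ := hsat b
  let C := integralClosure Γ(Y, V) Γ(X, W)
  let c : C := ⟨r * (r ^ m * b), hri.mul hm⟩
  have hc : c ∉ q.asIdeal.comap (algebraMap C Γ(X, W)) := fun h => by
    rcases q.2.mem_or_mem (show r * (r ^ m * b) ∈ q.asIdeal from h) with h | h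
    · exact hr h
    rcases q.2.mem_or_mem h with h | h
    · exact hr (q.2.mem_of_pow_mem _ h)
    · exact hbq h
  haveI hnX := isPrime_nilradical_of_isAffineOpen hW hxW
  have hnY := isPrime_nilradical_of_isAffineOpen hV hyV
  have hnC : (nilradical C).IsPrime := by
    have : nilradical C = (nilradical Γ(X, W)).comap (algebraMap C Γ(X, W)) := by
      ext z
      exact (IsNilpotent.map_iff (f := algebraMap C Γ(X, W)) Subtype.val_injective).symm
    rw [this]
    exact Ideal.IsPrime.comap _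
  have hker : RingHom.ker (algebraMap Γ(Y, V) C) ≤ nilradical Γ(Y, V) := by
    intro a ha
    refine (PrimeSpectrum.denseRange_comap_iff_ker_le_nilRadical φ.hom).1 ?_ (show φ.hom a = 0 from congrArg Subtype.val ha)
    have hdW : DenseRange hW.fromSpec.base := by
      rw [DenseRange, hW.range_fromSpec]
      exact W.2.dense ⟨x, hxW⟩
    have h2 : Dense (Set.range (f.base ∘ hW.fromSpec.base)) := hd.comp hdW f.continuous
    have h3 : hV.fromSpec.base ⁻¹' Set.range (f.base ∘ hW.fromSpec.base) = Set.range (Spec.map φ).base := by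
      ext z
      constructor
      · rintro ⟨w, hw⟩
        exact ⟨w, hV.fromSpec.isOpenEmbedding.injective ((hfac' w).trans hw)⟩
      · rintro ⟨w, rfl⟩
        exact ⟨w, (hfac' w).symm⟩
    show Dense (Set.range (Spec.map φ).base)
    rw [← h3]
    exact h2.preimage hV.fromSpec.isOpenEmbedding.isOpenMap
  let qC := q.asIdeal.comap (algebraMap C Γ(X, W))
  have hp : qC.comap (algebraMap Γ(Y, V) C) = (hV.primeIdealOf ⟨f.base x, hyV⟩).asIdeal := by
    have : (Spec.map φ).base q = hV.primeIdealOf ⟨f.base x, hyV⟩ := hV.fromSpec.isOpenEmbedding.injective (by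
      rw [hfac', hqx]; exact (hV.fromSpec_primeIdealOf ⟨f.base x, hyV⟩).symm)
    rw [← this]
    rfl
  letI := TopCat.Presheaf.algebra_section_stalk Y.presheaf ⟨f.base x, hyV⟩
  haveI : IsLocalization.AtPrime (Y.presheaf.stalk (f.base x)) (qC.comap (algebraMap Γ(Y, V) C)) := by
    simp only [hp]
    exact hV.isLocalization_stalk ⟨f.base x, hyV⟩
  obtain ⟨a, ha, H⟩ := exists_basicOpen_subset hnY hnC hker qC (Y.presheaf.stalk (f.base x)) hu c hc
  have himg : hV.fromSpec.base '' (↑(PrimeSpectrum.basicOpen a) : Set (PrimeSpectrum Γ(Y, V))) ∈ 𝓝 (f.base x) := by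
    refine (hV.fromSpec.isOpenEmbedding.isOpenMap _ (PrimeSpectrum.basicOpen a).2).mem_nhds
      ⟨hV.primeIdealOf ⟨f.base x, hyV⟩, ?_, hV.fromSpec_primeIdealOf _⟩
    show a ∉ (hV.primeIdealOf ⟨f.base x, hyV⟩).asIdeal
    rw [← hp]
    exact ha
  refine Filter.mem_of_superset himg ?_
  rintro _ ⟨P, hP, rfl⟩
  obtain ⟨QC, hQC, hcQ, hQP⟩ := H P.asIdeal P.2 hP
  haveI := hQC
  have hrC : (⟨r, hri⟩ : C) ∉ QC := fun h => hcQ (Ideal.mul_mem_right (⟨r ^ m * b, hm⟩ : C) _ h)
  have hspan : ∀ z ∈ QC.map (algebraMap C Γ(X, W)), ∃ (n : ℕ) (w : C), w ∈ QC ∧ r ^ n * z = w.1 := by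
    intro z hz
    induction hz using Submodule.span_induction with
    | mem z hz =>
      obtain ⟨w, hw, rfl⟩ := hz
      exact ⟨0, w, hw, by simp⟩
    | zero => exact ⟨0, 0, QC.zero_mem, by simp⟩
    | add z z' _ _ h h' =>
      obtain ⟨n, w, hw, he⟩ := h
      obtain ⟨n', w', hw', he'⟩ := h'
      refine ⟨n + n', (⟨r, hri⟩ : C) ^ n' * w + (⟨r, hri⟩ : C) ^ n * w',
        add_mem (Ideal.mul_mem_left _ _ hw) (Ideal.mul_mem_left _ _ hw'), ?_⟩
      simp [← he, ← he', pow_add]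
      ring
    | smul s z _ h =>
      obtain ⟨n, w, hw, he⟩ := h
      obtain ⟨n', hn'⟩ := hsat s
      refine ⟨n' + n, (⟨r ^ n' * s, hn'⟩ : C) * w, Ideal.mul_mem_left _ _ hw, ?_⟩
      simp [← he, pow_add]
      ring
  obtain ⟨Q, hQ⟩ := (PrimeSpectrum.mem_range_comap_iff (algebraMap C Γ(X, W)) (p := (⟨QC, hQC⟩ : PrimeSpectrum C))).2
    (le_antisymm (fun z hz => by
      obtain ⟨n, w, hw, he⟩ := hspan _ hz
      have : (⟨r, hri⟩ : C) ^ n * z = w := Subtype.ext (by simpa using he)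
      exact (hQC.mem_or_mem (this ▸ hw : (⟨r, hri⟩ : C) ^ n * z ∈ QC)).resolve_left
        (fun h => hrC (hQC.mem_of_pow_mem _ h))) Ideal.le_comap_map)
  have hQC' : Q.asIdeal.comap (algebraMap C Γ(X, W)) = QC := congrArg PrimeSpectrum.asIdeal hQ
  refine ⟨hW.fromSpec.base Q, hN'N (hsub fun hbQ => hcQ ?_), ?_⟩
  · rw [← hQC']
    exact Ideal.mul_mem_left _ _ (Ideal.mul_mem_left _ _ hbQ)
  · rw [← hfac']
    refine congrArg _ (PrimeSpectrum.ext ?_)
    rw [← hQP, ← hQC']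
    rfl

end Groth.Agent.UnibOpen
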