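import Groth.Prelude.Def_CAlg2
import Mathlib.RingTheory.Spectrum.Prime.Topology
import Mathlib.FieldTheory.Minpoly.IsIntegrallyClosed
import Mathlib.FieldTheory.IsAlgClosed.AlgebraicClosure
import Mathlib.RingTheory.Localization.FractionRing

/-! Integral extensions are open at points over unibranch points. -/

set_option autoImplicit false
universe u
open Polynomial

namespace Groth.Agent.UnibOpen

/-- Over a prime with unibranch local ring the normalization has only one prime. -/
theorem eq_of_isLocalRing_closure {A R : Type u} [CommRing A] [CommRing R] [IsDomain R] [Algebra A R]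
    (p : Ideal A) [p.IsPrime]
    [IsLocalization.AtPrime R p] [IsLocalRing (integralClosure R (FractionRing R))]
    {P P' : Ideal (integralClosure A (FractionRing R))} [P.IsPrime] [P'.IsPrime]
    (hP : P.comap (algebraMap A _) = p) (hP' : P'.comap (algebraMap A _) = p) : P = P' := by
  let D := integralClosure R (FractionRing R)
  let A' := integralClosure A (FractionRing R)
  let ι : A' →ₐ[A] D :=
    { toFun := fun x => ⟨x.1, x.2.tower_top⟩
      map_one' := rfl
      map_mul' := fun _ _ => rfl
      map_zero' := rfl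
      map_add' := fun _ _ => rfl
      commutes' := fun _ => rfl }
  suffices h : ∀ (P : Ideal A') [P.IsPrime], P.comap (algebraMap A A') = p →
      P = (IsLocalRing.maximalIdeal D).comap ι by rw [h P hP, h P' hP']
  intro P _ hP
  have hcl : ∀ x : D, ∃ (s : A) (y : A'), s ∉ p ∧ ι y = algebraMap A D s * x := by
    intro x
    obtain ⟨⟨s, hs⟩, hint⟩ := IsIntegral.exists_multiple_integral_of_isLocalization (Rₘ := R) p.primeCompl (x : FractionRing R) x.2
    exact ⟨s, ⟨_, hint⟩, hs, Subtype.ext (by show (⟨s, hs⟩ : p.primeCompl) • (x : FractionRing R) = _; rw [Submonoid.smul_def, Algebra.smul_def]; rfl)⟩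
  have hne : P.map ι.toRingHom ≠ ⊤ := by
    intro htop
    have h1 : ∀ x ∈ P.map ι.toRingHom, ∃ (s : A) (y : A'), s ∉ p ∧ y ∈ P ∧ ι y = algebraMap A D s * x := by
      intro x hx
      induction hx using Submodule.span_induction with
      | mem x hx =>
        obtain ⟨y, hy, rfl⟩ := hx
        exact ⟨1, y, fun h => Ideal.IsPrime.ne_top ‹_› ((Ideal.eq_top_iff_one _).2 h), hy, by simp⟩
      | zero => exact ⟨1, 0, fun h => Ideal.IsPrime.ne_top ‹_› ((Ideal.eq_top_iff_one _).2 h), P.zero_mem, by simp⟩
      | add x y _ _ hx hy =>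
        obtain ⟨s, a, hs, ha, he⟩ := hx
        obtain ⟨t, b, ht, hb, he'⟩ := hy
        refine ⟨s * t, algebraMap A A' t * a + algebraMap A A' s * b,
          fun h => (Ideal.IsPrime.mem_or_mem ‹_› h).elim hs ht,
          add_mem (Ideal.mul_mem_left _ _ ha) (Ideal.mul_mem_left _ _ hb), ?_⟩
        simp only [map_add, map_mul, AlgHom.commutes, he, he']
        ring
      | smul r x _ hx =>
        obtain ⟨s, a, hs, ha, he⟩ := hx
        obtain ⟨t, b, ht, hb⟩ := hcl r
        refine ⟨t * s, b * a, fun h => (Ideal.IsPrime.mem_or_mem ‹_› h).elim ht hs, Ideal.mul_mem_left _ _ ha, ?_⟩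
        simp only [map_mul, he, hb, smul_eq_mul]
        ring
    obtain ⟨s, y, hs, hy, he⟩ := h1 1 (htop ▸ trivial)
    have : y = algebraMap A A' s := Subtype.ext (by
      exact (congrArg Subtype.val (he.trans (mul_one _)) : ((ι y : D) : FractionRing R) = _))
    exact hs (hP ▸ (this ▸ hy : algebraMap A A' s ∈ P))
  have hle : P ≤ (IsLocalRing.maximalIdeal D).comap ι :=
    Ideal.map_le_iff_le_comap.1 (IsLocalRing.le_maximalIdeal hne)
  have hp : ((IsLocalRing.maximalIdeal D).comap ι).comap (algebraMap A A') ≤ p := by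
    intro a ha
    by_contra hap
    refine (IsLocalRing.maximalIdeal.isMaximal D).ne_top (Ideal.eq_top_of_isUnit_mem _ ha ?_)
    show IsUnit (ι (algebraMap A A' a))
    rw [AlgHom.commutes, IsScalarTower.algebraMap_apply A R D]
    exact (IsLocalization.map_units R (⟨a, hap⟩ : p.primeCompl)).map (algebraMap R D)
  by_contra hne'
  have hlt := Ideal.IsIntegral.comap_lt_comap (R := A) (lt_of_le_of_ne hle hne')
  exact hlt.not_ge (hp.trans hP.ge)

/-- Openness for domains, given uniqueness in the normalization. -/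
theorem exists_basicOpen_subset_of_unique {A B K : Type u} [CommRing A] [CommRing B] [IsDomain A] [IsDomain B]
    [Field K] [Algebra A K] [IsFractionRing A K] [Algebra A B] [Algebra.IsIntegral A B]
    (hinj : Function.Injective (algebraMap A B)) (q : Ideal B) [q.IsPrime]
    (huniq : ∀ (P P' : Ideal (integralClosure A K)), P.IsPrime → P'.IsPrime →
      P.comap (algebraMap A _) = q.comap (algebraMap A B) → P'.comap (algebraMap A _) = q.comap (algebraMap A B) → P = P')
    (b : B) (hb : b ∉ q) :
    ∃ a : A, a ∉ q.comap (algebraMap A B) ∧ ∀ P₀ : Ideal A, P₀.IsPrime → a ∉ P₀ →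
      ∃ Q : Ideal B, Q.IsPrime ∧ b ∉ Q ∧ Q.comap (algebraMap A B) = P₀ := by
  classical
  let L := FractionRing B
  have hAL : Function.Injective (algebraMap A L) := by
    rw [IsScalarTower.algebraMap_eq A B L]
    exact (IsFractionRing.injective B L).comp hinj
  letI : Algebra K L := (IsFractionRing.lift hAL).toAlgebra
  haveI : IsScalarTower A K L := IsScalarTower.of_algebraMap_eq fun a => (IsFractionRing.lift_algebraMap hAL a).symm
  let A' := integralClosure A K
  haveI : IsFractionRing A' K := integralClosure.isFractionRing_of_finite_extension K K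
  haveI : IsIntegrallyClosed A' := integralClosure.isIntegrallyClosedOfFiniteExtension K
  let E := integralClosure A L
  let ιA : A' →ₐ[A] E := ((IsScalarTower.toAlgHom A K L).comp A'.val).codRestrict E fun x => x.2.map (IsScalarTower.toAlgHom A K L)
  letI : Algebra A' E := ιA.toRingHom.toAlgebra
  haveI : IsScalarTower A A' E := IsScalarTower.of_algebraMap_eq fun a => (ιA.commutes a).symm
  haveI : Algebra.IsIntegral A E := inferInstance
  haveI : Algebra.IsIntegral A' E := Algebra.IsIntegral.tower_top (R := A)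
  have hιA : Function.Injective (algebraMap A' E) := fun x y h =>
    Subtype.ext ((algebraMap K L).injective (congrArg Subtype.val h))
  haveI : FaithfulSMul A' E := (faithfulSMul_iff_algebraMap_injective _ _).2 hιA
  let ιB : B →ₐ[A] E := (IsScalarTower.toAlgHom A B L).codRestrict E fun x => (Algebra.IsIntegral.isIntegral (R := A) x).map _
  letI : Algebra B E := ιB.toRingHom.toAlgebra
  haveI : IsScalarTower A B E := IsScalarTower.of_algebraMap_eq fun a => (ιB.commutes a).symm
  haveI : Algebra.IsIntegral B E := Algebra.IsIntegral.tower_top (R := A)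
  have hιB : Function.Injective (algebraMap B E) := fun x y h =>
    IsFractionRing.injective B L (congrArg Subtype.val h)
  let e := algebraMap B E b
  have he : IsIntegral A' e := Algebra.IsIntegral.isIntegral e
  let g := minpoly A' e
  let O : Set (PrimeSpectrum A') := {P | ∃ i < g.natDegree, g.coeff i ∉ P.asIdeal}
  have hO : IsOpen O := by
    rw [show O = ⋃ i ∈ Set.Iio g.natDegree, (PrimeSpectrum.basicOpen (g.coeff i) : Set (PrimeSpectrum A')) by
      ext P; simp [O]]
    exact isOpen_biUnion fun i _ => (PrimeSpectrum.basicOpen _).2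
  -- every point over `p` is in `O`
  have hmem : ∀ P : PrimeSpectrum A', P.asIdeal.comap (algebraMap A A') = q.comap (algebraMap A B) → P ∈ O := by
    intro P hP
    by_contra hPO
    simp only [O, Set.mem_setOf_eq, not_exists, not_and, not_not] at hPO
    obtain ⟨q'', hq''p, hq''⟩ := Ideal.exists_ideal_over_prime_of_isIntegral_of_isDomain (S := E) q
      (by rw [(RingHom.injective_iff_ker_eq_bot _).1 hιB]; exact bot_le)
    have hP' : q''.comap (algebraMap A' E) = P.asIdeal := by
      refine huniq _ _ (Ideal.IsPrime.comap _) P.2 ?_ hP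
      rw [Ideal.comap_comap, ← IsScalarTower.algebraMap_eq, IsScalarTower.algebraMap_eq A B E, ← Ideal.comap_comap, hq'']
    have h0 : aeval e g = 0 := minpoly.aeval _ _
    rw [aeval_eq_sum_range, Finset.sum_range_succ, (minpoly.monic he).coeff_natDegree, one_smul] at h0
    have hpow : e ^ g.natDegree ∈ q'' := by
      rw [eq_neg_of_add_eq_zero_right h0]
      refine neg_mem (Submodule.sum_mem _ fun i hi => ?_)
      rw [Algebra.smul_def]
      refine Ideal.mul_mem_right _ _ ?_
      rw [← Ideal.mem_comap, hP']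
      exact hPO i (Finset.mem_range.1 hi)
    exact hb (hq'' ▸ hq''p.mem_of_pow_mem _ hpow : b ∈ q)
  have hclosed : IsClosed (PrimeSpectrum.comap (algebraMap A A') '' Oᶜ) :=
    PrimeSpectrum.isClosedMap_comap_of_isIntegral _ (Algebra.IsIntegral.isIntegral (R := A) (A := A')) _ hO.isClosed_compl
  have hnot : (⟨q.comap (algebraMap A B), inferInstance⟩ : PrimeSpectrum A) ∈ (PrimeSpectrum.comap (algebraMap A A') '' Oᶜ)ᶜ := by
    rintro ⟨P, hP, hPq⟩
    exact hP (hmem P (congrArg PrimeSpectrum.asIdeal hPq))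
  obtain ⟨_, ⟨a, rfl⟩, ha, hsub⟩ := PrimeSpectrum.isTopologicalBasis_basic_opens.exists_subset_of_mem_open hnot hclosed.isOpen_compl
  refine ⟨a, ha, fun P₀ hP₀ haP => ?_⟩
  obtain ⟨P, hPp, hP⟩ := Ideal.exists_ideal_over_prime_of_isIntegral_of_isDomain (S := A') P₀ (by
    rw [(RingHom.injective_iff_ker_eq_bot (algebraMap A A')).1 fun x y h =>
      IsFractionRing.injective A K (congrArg Subtype.val h)]
    exact bot_le)
  obtain ⟨i, hi, hci⟩ : (⟨P, hPp⟩ : PrimeSpectrum A') ∈ O := by
    by_contra hn
    exact hsub (show (⟨P₀, hP₀⟩ : PrimeSpectrum A) ∈ _ from haP) ⟨⟨P, hPp⟩, hn, PrimeSpectrum.ext hP⟩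
  haveI := hPp
  let Ω := AlgebraicClosure P.ResidueField
  let gb := g.map (algebraMap A' Ω)
  obtain ⟨α, hα, hα0⟩ : ∃ α ∈ gb.roots, α ≠ 0 := by
    by_contra hall
    push Not at hall
    have hs := (IsAlgClosed.splits gb).eq_prod_roots_of_monic ((minpoly.monic he).map _)
    rw [Multiset.eq_replicate_card.2 hall, Multiset.map_replicate, Multiset.prod_replicate, map_zero, sub_zero] at hs
    have hdeg : gb.natDegree = g.natDegree := (minpoly.monic he).natDegree_map _
    have hd := congrArg natDegree hs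
    rw [natDegree_X_pow, hdeg] at hd
    have hc := congrArg (fun f => coeff f i) hs
    simp only [gb, coeff_map, coeff_X_pow, ← hd, if_neg hi.ne] at hc
    refine hci ?_
    rw [IsScalarTower.algebraMap_apply A' P.ResidueField Ω] at hc
    exact Ideal.algebraMap_residueField_eq_zero.1 ((algebraMap P.ResidueField Ω).injective (hc.trans (map_zero _).symm))
  let θ : A'[X] →+* Ω := (aeval α : A'[X] →ₐ[A'] Ω).toRingHom
  letI : Algebra A'[X] E := (aeval e : A'[X] →ₐ[A'] E).toRingHom.toAlgebra
  haveI : IsScalarTower A' A'[X] E := IsScalarTower.of_algebraMap_eq fun r => ((aeval e : A'[X] →ₐ[A'] E).commutes r).symm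
  haveI : Algebra.IsIntegral A'[X] E := Algebra.IsIntegral.tower_top (R := A')
  haveI : Module.IsTorsionFree A' E := inferInstance
  haveI : (RingHom.ker θ).IsPrime := RingHom.ker_isPrime θ
  obtain ⟨Q, hQp, hQ⟩ := Ideal.exists_ideal_over_prime_of_isIntegral_of_isDomain (S := E) (RingHom.ker θ) (by
    rw [show RingHom.ker (algebraMap A'[X] E) = RingHom.ker (aeval e : A'[X] →ₐ[A'] E) from rfl, show RingHom.ker (aeval e : A'[X] →ₐ[A'] E) = Ideal.span {g} from minpoly.ker_eval he,
      Ideal.span_singleton_le_iff_mem]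
    show aeval α g = 0
    rw [aeval_def, ← eval_map]
    exact (mem_roots'.1 hα).2)
  refine ⟨Q.comap (algebraMap B E), Ideal.IsPrime.comap _, fun hbQ => hα0 ?_, ?_⟩
  · have : (X : A'[X]) ∈ RingHom.ker θ := by
      rw [← hQ, Ideal.mem_comap]
      show aeval e X ∈ Q
      rw [aeval_X]
      exact hbQ
    simpa [θ] using this
  · rw [Ideal.comap_comap, ← IsScalarTower.algebraMap_eq, IsScalarTower.algebraMap_eq A A' E, ← Ideal.comap_comap,
      IsScalarTower.algebraMap_eq A' A'[X] E, ← Ideal.comap_comap, hQ, ← hP]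
    congr 1
    ext r
    simp [θ, IsScalarTower.algebraMap_apply A' P.ResidueField Ω, RingHom.mem_ker]

/-- The reduction of a localization is the localization of the reduction. -/
theorem isLocalization_red {A₀ O : Type u} [CommRing A₀] [CommRing O] [Algebra A₀ O] (p₀ : Ideal A₀) [p₀.IsPrime]
    [IsLocalization.AtPrime O p₀] (hn : nilradical A₀ ≤ (nilradical O).comap (algebraMap A₀ O))
    [(p₀.map (Ideal.Quotient.mk (nilradical A₀))).IsPrime] :
    letI := (Ideal.quotientMap (nilradical O) (algebraMap A₀ O) hn).toAlgebra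
    IsLocalization.AtPrime (CAlg2.red O) (p₀.map (Ideal.Quotient.mk (nilradical A₀))) := by
  letI := (Ideal.quotientMap (nilradical O) (algebraMap A₀ O) hn).toAlgebra
  have hmem : ∀ s : A₀, Ideal.Quotient.mk (nilradical A₀) s ∈ p₀.map (Ideal.Quotient.mk (nilradical A₀)) ↔ s ∈ p₀ := by
    intro s
    rw [← Ideal.mem_comap, Ideal.comap_map_of_surjective _ Ideal.Quotient.mk_surjective, ← RingHom.ker_eq_comap_bot,
      Ideal.mk_ker, sup_eq_left.2 (nilradical_le_prime p₀)]
  refine
    { map_units := ?_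
      surj := ?_
      exists_of_eq := ?_ }
  · rintro ⟨y, hy⟩
    obtain ⟨s, rfl⟩ := Ideal.Quotient.mk_surjective y
    exact (IsLocalization.map_units O (⟨s, fun h => hy ((hmem s).2 h)⟩ : p₀.primeCompl)).map (Ideal.Quotient.mk (nilradical O))
  · intro z
    obtain ⟨z, rfl⟩ := Ideal.Quotient.mk_surjective z
    obtain ⟨⟨x, s, hs⟩, hxs⟩ := IsLocalization.surj p₀.primeCompl z
    exact ⟨⟨Ideal.Quotient.mk _ x, Ideal.Quotient.mk _ s, fun h => hs ((hmem s).1 h)⟩,
      congrArg (Ideal.Quotient.mk (nilradical O)) hxs⟩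
  · intro x y h
    obtain ⟨x, rfl⟩ := Ideal.Quotient.mk_surjective x
    obtain ⟨y, rfl⟩ := Ideal.Quotient.mk_surjective y
    obtain ⟨n, hn⟩ := (Ideal.Quotient.eq.1 h : algebraMap A₀ O x - algebraMap A₀ O y ∈ nilradical O)
    rw [← map_sub, ← map_pow] at hn
    replace hn := (IsLocalization.map_eq_zero_iff p₀.primeCompl O _).1 hn
    obtain ⟨⟨s, hs⟩, hsn⟩ := hn
    refine ⟨⟨Ideal.Quotient.mk _ s, fun h => hs ((hmem s).1 h)⟩, ?_⟩
    show Ideal.Quotient.mk _ s * Ideal.Quotient.mk _ x = Ideal.Quotient.mk _ s * Ideal.Quotient.mk _ y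
    rw [← map_mul, ← map_mul, Ideal.Quotient.eq, ← mul_sub]
    refine ⟨n + 1, ?_⟩
    simp only at hsn
    rw [mul_pow, pow_succ, pow_succ, show s ^ n * s * ((x - y) ^ n * (x - y)) = s ^ n * (s * (x - y) ^ n) * (x - y) by ring,
      hsn, mul_zero, zero_mul]
    rfl

/-- EGA IV 14.4: an integral extension of irreducible rings is open at a prime over a unibranch point. -/
theorem exists_basicOpen_subset {A₀ B₀ : Type u} [CommRing A₀] [CommRing B₀] [Algebra A₀ B₀]
    [Algebra.IsIntegral A₀ B₀] (hA : (nilradical A₀).IsPrime) (hB : (nilradical B₀).IsPrime)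
    (hker : RingHom.ker (algebraMap A₀ B₀) ≤ nilradical A₀) (q : Ideal B₀) [q.IsPrime]
    (O : Type u) [CommRing O] [Algebra A₀ O] [IsLocalization.AtPrime O (q.comap (algebraMap A₀ B₀))] [IsLocalRing O]
    (hu : CAlg2.IsUnibranch O) (b : B₀) (hb : b ∉ q) :
    ∃ a : A₀, a ∉ q.comap (algebraMap A₀ B₀) ∧ ∀ P : Ideal A₀, P.IsPrime → a ∉ P →
      ∃ Q : Ideal B₀, Q.IsPrime ∧ b ∉ Q ∧ Q.comap (algebraMap A₀ B₀) = P := by
  obtain ⟨hdom, hloc⟩ := hu
  haveI := hdom
  haveI := hloc
  let A := A₀ ⧸ nilradical A₀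
  let B := B₀ ⧸ nilradical B₀
  haveI : IsDomain A := (Ideal.Quotient.isDomain_iff_prime _).2 hA
  haveI : IsDomain B := (Ideal.Quotient.isDomain_iff_prime _).2 hB
  have hnB : nilradical A₀ ≤ (nilradical B₀).comap (algebraMap A₀ B₀) := fun x hx => IsNilpotent.map hx _
  have hnO : nilradical A₀ ≤ (nilradical O).comap (algebraMap A₀ O) := fun x hx => IsNilpotent.map hx _
  letI : Algebra A B := (Ideal.quotientMap _ (algebraMap A₀ B₀) hnB).toAlgebra
  haveI : Algebra.IsIntegral A B := ⟨fun y => by
    obtain ⟨y, rfl⟩ := Ideal.Quotient.mk_surjective y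
    exact (Algebra.IsIntegral.isIntegral (R := A₀) y).map_of_comp_eq (Ideal.Quotient.mk (nilradical A₀)) (Ideal.Quotient.mk (nilradical B₀))
      (RingHom.ext fun a => rfl)⟩
  have hinj : Function.Injective (algebraMap A B) := by
    refine Ideal.quotientMap_injective' (fun x hx => ?_)
    obtain ⟨n, hn⟩ := hx
    rw [← map_pow] at hn
    obtain ⟨m, hm⟩ := hker hn
    exact ⟨n * m, by rw [pow_mul]; exact hm⟩
  letI : Algebra A (CAlg2.red O) := (Ideal.quotientMap (nilradical O) (algebraMap A₀ O) hnO).toAlgebra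
  let qB := q.map (Ideal.Quotient.mk (nilradical B₀))
  let p₀ := q.comap (algebraMap A₀ B₀)
  have hpA : (p₀.map (Ideal.Quotient.mk (nilradical A₀))).IsPrime :=
    Ideal.map_isPrime_of_surjective Ideal.Quotient.mk_surjective (Ideal.mk_ker.trans_le (nilradical_le_prime p₀))
  haveI := hpA
  haveI : IsLocalization.AtPrime (CAlg2.red O) (p₀.map (Ideal.Quotient.mk (nilradical A₀))) := isLocalization_red p₀ hnO
  haveI : qB.IsPrime :=
    Ideal.map_isPrime_of_surjective Ideal.Quotient.mk_surjective (Ideal.mk_ker.trans_le (nilradical_le_prime q))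
  have hqB : qB.comap (Ideal.Quotient.mk (nilradical B₀)) = q := by
    rw [Ideal.comap_map_of_surjective _ Ideal.Quotient.mk_surjective, ← RingHom.ker_eq_comap_bot, Ideal.mk_ker,
      sup_eq_left.2 (nilradical_le_prime q)]
  have hp : qB.comap (algebraMap A B) = p₀.map (Ideal.Quotient.mk (nilradical A₀)) := by
    rw [← Ideal.map_comap_of_surjective _ Ideal.Quotient.mk_surjective (qB.comap (algebraMap A B)), Ideal.comap_comap,
      show (algebraMap A B).comp (Ideal.Quotient.mk (nilradical A₀)) = (Ideal.Quotient.mk (nilradical B₀)).comp (algebraMap A₀ B₀) from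
        RingHom.ext fun a => rfl, ← Ideal.comap_comap, hqB]
  let K := FractionRing (CAlg2.red O)
  haveI : FaithfulSMul A K := (faithfulSMul_iff_algebraMap_injective _ _).2 (by
    rw [IsScalarTower.algebraMap_eq A (CAlg2.red O) K]
    exact (IsFractionRing.injective (CAlg2.red O) K).comp
      (IsLocalization.injective _ (Ideal.primeCompl_le_nonZeroDivisors (p₀.map (Ideal.Quotient.mk (nilradical A₀))))))
  haveI : IsFractionRing A K := IsFractionRing.of_field A K fun z => by
    obtain ⟨u, v, -, rfl⟩ := IsFractionRing.div_surjective (CAlg2.red O) z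
    obtain ⟨x, s, rfl⟩ := IsLocalization.exists_mk'_eq (p₀.map (Ideal.Quotient.mk (nilradical A₀))).primeCompl u
    obtain ⟨y, t, rfl⟩ := IsLocalization.exists_mk'_eq (p₀.map (Ideal.Quotient.mk (nilradical A₀))).primeCompl v
    refine ⟨x * t, y * s, ?_⟩
    have e1 := congrArg (algebraMap (CAlg2.red O) K) (IsLocalization.mk'_spec (CAlg2.red O) x s)
    have e2 := congrArg (algebraMap (CAlg2.red O) K) (IsLocalization.mk'_spec (CAlg2.red O) y t)
    simp only [map_mul, ← IsScalarTower.algebraMap_apply] at e1 e2 ⊢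
    have hs0 : algebraMap A K s ≠ 0 := (map_ne_zero_iff _ (FaithfulSMul.algebraMap_injective A K)).2
      (nonZeroDivisors.ne_zero (Ideal.primeCompl_le_nonZeroDivisors _ s.2))
    have ht0 : algebraMap A K t ≠ 0 := (map_ne_zero_iff _ (FaithfulSMul.algebraMap_injective A K)).2
      (nonZeroDivisors.ne_zero (Ideal.primeCompl_le_nonZeroDivisors _ t.2))
    rw [← e1, ← e2]
    rw [mul_assoc, mul_assoc, mul_comm (algebraMap (A₀ ⧸ nilradical A₀) K t.1) (algebraMap (A₀ ⧸ nilradical A₀) K s.1)]
    exact (mul_div_mul_right _ _ (mul_ne_zero hs0 ht0)).symm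
  obtain ⟨a, ha, H⟩ := exists_basicOpen_subset_of_unique (K := FractionRing (CAlg2.red O)) hinj qB
    (fun P P' hP hP' h h' => by
      haveI := hP
      haveI := hP'
      exact eq_of_isLocalRing_closure (R := CAlg2.red O) (p₀.map (Ideal.Quotient.mk (nilradical A₀)))
        (h.trans hp) (h'.trans hp))
    (Ideal.Quotient.mk _ b) (fun h => hb (by rwa [← Ideal.mem_comap, hqB] at h))
  obtain ⟨a, rfl⟩ := Ideal.Quotient.mk_surjective a
  refine ⟨a, fun h => ha (by rw [hp]; exact Ideal.mem_map_of_mem _ h), fun P hP haP => ?_⟩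
  haveI := hP
  obtain ⟨Q, hQ, hbQ, hQP⟩ := H (P.map (Ideal.Quotient.mk (nilradical A₀)))
    (Ideal.map_isPrime_of_surjective Ideal.Quotient.mk_surjective (Ideal.mk_ker.trans_le (nilradical_le_prime P)))
    (fun h => haP (by
      rwa [← Ideal.mem_comap, Ideal.comap_map_of_surjective _ Ideal.Quotient.mk_surjective, ← RingHom.ker_eq_comap_bot,
        Ideal.mk_ker, sup_eq_left.2 (nilradical_le_prime P)] at h))
  refine ⟨Q.comap (Ideal.Quotient.mk (nilradical B₀)), Ideal.IsPrime.comap _, hbQ, ?_⟩
  rw [Ideal.comap_comap, show (Ideal.Quotient.mk (nilradical B₀)).comp (algebraMap A₀ B₀) =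
    (algebraMap A B).comp (Ideal.Quotient.mk (nilradical A₀)) from RingHom.ext fun a => rfl, ← Ideal.comap_comap, hQP,
    Ideal.comap_map_of_surjective _ Ideal.Quotient.mk_surjective, ← RingHom.ker_eq_comap_bot, Ideal.mk_ker,
    sup_eq_left.2 (nilradical_le_prime P)]

end Groth.Agent.UnibOpen
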